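import Cfsg.Agent.Lib.Linear.Weil.Schrodinger

/-!
# The odd half of the Weil representation

The intertwiners commute with the parity, so they act on the odd functions; dividing the square of the
determinant of the odd part by the determinant removes the scalar and leaves a representation of degree
`(q ^ n - 1) / 2`.
-/

set_option autoImplicit false

namespace Cfsg.Lib.Linear.Weil

open Matrix

variable {X : Type*} [Fintype X] [DecidableEq X] [AddCommGroup X]

/-- A choice of one point from each pair of opposite points. -/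
def half (X : Type*) [Fintype X] [DecidableEq X] [AddCommGroup X] : Type _ :=
  {x : X // Fintype.equivFin X x < Fintype.equivFin X (-x)}

noncomputable instance : Fintype (half X) := by unfold half; infer_instance

noncomputable instance : DecidableEq (half X) := by unfold half; infer_instance

/-- The odd part of a matrix. -/
noncomputable def odd (T : Matrix X X ℂ) : Matrix (half X) (half X) ℂ :=
  Matrix.of fun p r => T p.1 r.1 - T p.1 (-r.1)

theorem sum_split (h2 : ∀ x : X, -x = x → x = 0) {M : Type*} [AddCommMonoid M] (f : X → M) :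
    ∑ x, f x = f 0 + ∑ s : half X, (f s.1 + f (-s.1)) := by
  classical
  obtain ⟨e, he⟩ : ∃ e : X ≃ Fin (Fintype.card X), e = Fintype.equivFin X := ⟨_, rfl⟩
  rw [← Finset.add_sum_erase Finset.univ f (Finset.mem_univ 0), Finset.sum_add_distrib,
    ← Finset.sum_filter_add_sum_filter_not (Finset.univ.erase (0 : X)) (fun x => e x < e (-x)) f]
  congr 2
  · refine Finset.sum_bij' (fun x hx => (⟨x, he ▸ (Finset.mem_filter.mp hx).2⟩ : half X))
      (fun s _ => s.1) (fun _ _ => Finset.mem_univ _) (fun s _ => ?_) (fun _ _ => rfl) (fun _ _ => rfl) fun _ _ => rfl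
    have := s.2
    refine Finset.mem_filter.mpr ⟨Finset.mem_erase.mpr ⟨fun h0 => ?_, Finset.mem_univ _⟩, he ▸ this⟩
    rw [h0, neg_zero] at this
    exact lt_irrefl _ this
  · refine Finset.sum_bij' (fun x hx => (⟨-x, ?_⟩ : half X)) (fun s _ => -s.1) (fun _ _ => Finset.mem_univ _)
      (fun s _ => ?_) (fun _ _ => neg_neg _) (fun s _ => Subtype.ext (neg_neg _)) fun x _ => by rw [neg_neg]
    · obtain ⟨h0, hlt⟩ := Finset.mem_filter.mp hx
      rw [neg_neg, ← he]
      exact lt_of_le_of_ne (not_lt.mp hlt) fun h => (Finset.mem_erase.mp h0).1 (h2 x (e.injective h))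
    · have := s.2
      refine Finset.mem_filter.mpr ⟨Finset.mem_erase.mpr ⟨fun h0 => ?_, Finset.mem_univ _⟩, ?_⟩
      · rw [neg_eq_zero] at h0
        rw [h0, neg_zero] at this
        exact lt_irrefl _ this
      · rw [neg_neg, he]
        exact this.not_gt

theorem card_half (h2 : ∀ x : X, -x = x → x = 0) : 2 * Fintype.card (half X) + 1 = Fintype.card X := by
  have := sum_split h2 (fun _ => (1 : ℕ))
  simp only [Finset.sum_const, Finset.card_univ, smul_eq_mul, mul_one] at this
  omega

theorem half_ne_neg (p r : half X) : p.1 ≠ -r.1 := by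
  intro e
  have hp := p.2
  have hr := r.2
  rw [e, neg_neg] at hp
  exact lt_asymm hp hr

theorem odd_one : odd (1 : Matrix X X ℂ) = 1 := by
  ext p r
  rw [odd, Matrix.of_apply, Matrix.one_apply, Matrix.one_apply, Matrix.one_apply, if_neg (half_ne_neg p r),
    sub_zero]
  exact if_congr Subtype.ext_iff.symm rfl rfl

theorem odd_smul (c : ℂ) (T : Matrix X X ℂ) : odd (c • T) = c • odd T := by
  ext p r
  simp only [odd, Matrix.of_apply, Matrix.smul_apply, smul_eq_mul, mul_sub]

theorem odd_mul (h2 : ∀ x : X, -x = x → x = 0) (T S : Matrix X X ℂ) (hS : ∀ x y, S (-x) (-y) = S x y) :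
    odd (T * S) = odd T * odd S := by
  ext p r
  simp only [odd, Matrix.of_apply, Matrix.mul_apply]
  rw [← Finset.sum_sub_distrib, sum_split h2]
  have h0 : S 0 (-r.1) = S 0 r.1 := by simpa using hS 0 r.1
  rw [h0, sub_self, zero_add]
  refine Finset.sum_congr rfl fun s _ => ?_
  have e1 := hS s.1 r.1
  have e2 := hS s.1 (-r.1)
  rw [neg_neg] at e2
  rw [e1, e2]
  ring

/-- The scalar-free odd part. -/
noncomputable def oddNorm (T : Matrix X X ℂ) : Matrix (half X) (half X) ℂ :=
  ((odd T).det ^ 2 / T.det) • odd T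

theorem oddNorm_smul (h2 : ∀ x : X, -x = x → x = 0) {c : ℂ} (hc : c ≠ 0) (T : Matrix X X ℂ) :
    oddNorm (c • T) = oddNorm T := by
  rw [oddNorm, oddNorm, odd_smul, Matrix.det_smul, Matrix.det_smul, smul_smul, ← card_half h2]
  congr 1
  rw [pow_succ, two_mul, pow_add]
  field_simp
  ring

theorem oddNorm_mul (h2 : ∀ x : X, -x = x → x = 0) (T S : Matrix X X ℂ) (hS : ∀ x y, S (-x) (-y) = S x y) :
    oddNorm (T * S) = oddNorm T * oddNorm S := by
  rw [oddNorm, oddNorm, oddNorm, odd_mul h2 T S hS, Matrix.det_mul, Matrix.det_mul, Matrix.smul_mul,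
    Matrix.mul_smul, smul_smul]
  congr 1
  ring

theorem oddNorm_one : oddNorm (1 : Matrix X X ℂ) = 1 := by
  rw [oddNorm, odd_one, Matrix.det_one, Matrix.det_one]
  simp

section Field

variable {F : Type*} [Field F] [Fintype F] [DecidableEq F] {n : ℕ}

theorem neg_fix (h2 : (2 : F) ≠ 0) (x : Fin n → F) (hx : -x = x) : x = 0 := funext fun i => by
  have := congrFun hx i
  rw [Pi.neg_apply, neg_eq_iff_add_eq_zero, ← two_mul] at this
  exact (mul_eq_zero.mp this).resolve_left h2

variable {ψ : AddChar F ℂ}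

/-- The odd half of the Weil representation. -/
theorem exists_weilHom (hψ : ∀ d : F, d ≠ 0 → ∃ c, ψ (d * c) ≠ 1) (h2 : (2 : F) ≠ 0) :
    ∃ ω : ↥(symplecticGroup (Fin n) F) →* Matrix (half (Fin n → F)) (half (Fin n → F)) ℂ,
      ∀ (g : ↥(symplecticGroup (Fin n) F)) (T T' : Matrix (Fin n → F) (Fin n → F) ℂ), T * T' = 1 →
        (∀ u, piOp ψ ((g : Matrix (Fin n ⊕ Fin n) (Fin n ⊕ Fin n) F) *ᵥ u) * T = T * piOp ψ u) →
        ω g = oddNorm T := by
  choose T T' hTT hT'T hT using
    fun g : ↥(symplecticGroup (Fin n) F) => exists_intertwiner hψ h2 g.2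
  have key : ∀ (g : ↥(symplecticGroup (Fin n) F)) (S S' : Matrix (Fin n → F) (Fin n → F) ℂ), S * S' = 1 →
      (∀ u, piOp ψ ((g : Matrix (Fin n ⊕ Fin n) (Fin n ⊕ Fin n) F) *ᵥ u) * S = S * piOp ψ u) →
      oddNorm (T g) = oddNorm S := by
    intro g S S' hSS hS
    have hT' : ∀ u, T' g * piOp ψ ((g : Matrix (Fin n ⊕ Fin n) (Fin n ⊕ Fin n) F) *ᵥ u) = piOp ψ u * T' g := by
      intro u
      calc T' g * piOp ψ ((g : Matrix (Fin n ⊕ Fin n) (Fin n ⊕ Fin n) F) *ᵥ u)
          = T' g * (piOp ψ ((g : Matrix (Fin n ⊕ Fin n) (Fin n ⊕ Fin n) F) *ᵥ u) * T g) * T' g := by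
            simp only [mul_assoc, hTT, mul_one]
        _ = (T' g * T g) * (piOp ψ u * T' g) := by rw [hT]; simp only [mul_assoc]
        _ = _ := by rw [hT'T, one_mul]
    obtain ⟨c, hc⟩ := commutant hψ (T' g * S) fun u => by rw [mul_assoc, ← hS, ← mul_assoc, hT', mul_assoc]
    have hST : S = c • T g := by
      have := congrArg (fun A => T g * A) hc
      simp only [← mul_assoc] at this
      rwa [hTT, one_mul, Matrix.mul_smul, mul_one] at this
    have hc0 : c ≠ 0 := by
      rintro rfl
      rw [zero_smul] at hST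
      rw [hST, zero_mul] at hSS
      exact zero_ne_one hSS
    rw [hST, oddNorm_smul (neg_fix h2) hc0]
  refine ⟨{ toFun := fun g => oddNorm (T g)
            map_one' := (key 1 1 1 (mul_one 1) fun u => by
              rw [OneMemClass.coe_one, Matrix.one_mulVec, mul_one, one_mul]).trans oddNorm_one
            map_mul' := fun g h => ?_ }, fun g S S' hSS hS => key g S S' hSS hS⟩
  rw [← oddNorm_mul (neg_fix h2) _ _ (intertwiner_parity hψ h2 (hTT h) (hT h))]
  refine key (g * h) (T g * T h) (T' h * T' g) ?_ fun u => ?_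
  · calc T g * T h * (T' h * T' g) = T g * (T h * T' h) * T' g := by simp only [mul_assoc]
      _ = 1 := by rw [hTT, mul_one, hTT]
  · rw [Submonoid.coe_mul, ← Matrix.mulVec_mulVec, ← mul_assoc, hT, mul_assoc, hT, mul_assoc]

/-- The matrix moving momenta by a symmetric map of the positions. -/
theorem lower_intertwiner (h2 : (2 : F) ≠ 0) (S : Matrix (Fin n) (Fin n) F) (hS : Sᵀ = S)
    (u : Fin n ⊕ Fin n → F) :
    piOp ψ (Matrix.fromBlocks 1 0 S 1 *ᵥ u) * Matrix.diagonal (fun x => ψ (-(2⁻¹ * (x ⬝ᵥ S *ᵥ x)))) =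
      Matrix.diagonal (fun x => ψ (-(2⁻¹ * (x ⬝ᵥ S *ᵥ x)))) * piOp ψ u := by
  have hp : pos (Matrix.fromBlocks 1 0 S 1 *ᵥ u) = pos u := by
    funext i
    simp [pos, Matrix.fromBlocks_mulVec]
  have hm : mom (Matrix.fromBlocks 1 0 S 1 *ᵥ u) = S *ᵥ pos u + mom u := by
    funext i
    simp [pos, mom, Matrix.fromBlocks_mulVec, Function.comp_def]
  ext x y
  rw [Matrix.mul_diagonal, Matrix.diagonal_mul, piOp_apply, piOp_apply, hp, hm]
  split_ifs with hy
  · rw [hy, ← AddChar.map_add_eq_mul, ← AddChar.map_add_eq_mul]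
    congr 1
    have hsym : x ⬝ᵥ S *ᵥ pos u = pos u ⬝ᵥ S *ᵥ x := by
      rw [Matrix.dotProduct_mulVec, ← Matrix.mulVec_transpose, hS, dotProduct_comm]
    simp only [Matrix.mulVec_add, add_dotProduct, dotProduct_add, hsym, dotProduct_comm (S *ᵥ pos u) x,
      dotProduct_comm (mom u) (pos u)]
    field_simp
    ring
  · simp

end Field

end Cfsg.Lib.Linear.Weil
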