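import Mathlib.NumberTheory.LegendreSymbol.Complex
import Cfsg.Agent.Lib.Linear.Weil.Odd
import Cfsg.Agent.Lib.Linear.CrossCharSymp
import Cfsg.Agent.Lib.Linear.SymmCongrClass

/-!
# The least degree of a complex representation of a symplectic group in odd characteristic

A non-trivial representation has degree at least `(q ^ n - 1) / 2`, and the odd half of the Weil
representation is non-trivial of this degree, hence irreducible.
-/

set_option autoImplicit false

namespace Cfsg.Lib.Linear.Weil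

open Matrix

variable {F : Type*} [Field F] [Fintype F] [DecidableEq F] {n : ℕ}

theorem sp_perfect (h2 : (2 : F) ≠ 0) (hn : 2 ≤ n) :
    commutator ↥(symplecticGroup (Fin n) F) = ⊤ ∧
      ∀ N : Subgroup ↥(symplecticGroup (Fin n) F), N.Normal →
        N ≤ Subgroup.center ↥(symplecticGroup (Fin n) F) ∨ N = ⊤ := by
  have hp : commutator (Symp.iso (Symp.spB n F)) = ⊤ :=
    Symp.commutator_eq_top (Symp.spB_nondegenerate n F) (Symp.spB_isAlt n F)
      (Or.inr (Or.inl ⟨by rw [Symp.finrank_space]; omega, Or.inl h2⟩))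
  obtain ⟨e, he⟩ : ∃ e : Symp.iso (Symp.spB n F) ≃* ↥(symplecticGroup (Fin n) F), e = Symp.spEquiv.symm := ⟨_, rfl⟩
  refine ⟨?_, fun N hN => ?_⟩
  · have := congrArg (Subgroup.map e.toMonoidHom) hp
    rw [commutator_def, Subgroup.map_commutator, Subgroup.map_top_of_surjective _ e.surjective] at this
    rw [commutator_def]
    exact this
  · haveI := hN
    haveI : (N.comap e.toMonoidHom).Normal := hN.comap _
    rcases Symp.eq_center_or_top (Symp.spB_nondegenerate n F) (Symp.spB_isAlt n F) hp (N.comap e.toMonoidHom) with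
      h | h
    · left
      intro x hx
      have hy : e.symm x ∈ Subgroup.center _ := h (by
        rw [Subgroup.mem_comap]; simpa using hx)
      rw [Subgroup.mem_center_iff] at hy ⊢
      intro y
      exact e.symm.injective (by rw [map_mul, map_mul]; exact hy _)
    · right
      rw [eq_top_iff]
      intro x _
      have : e.symm x ∈ N.comap e.toMonoidHom := h ▸ Subgroup.mem_top _
      simpa using this

/-- A non-trivial homomorphism to the endomorphisms of a space bounds the dimension below. -/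
theorem degree_ge (h2 : (2 : F) ≠ 0) (hn : 2 ≤ n) {V : Type*} [AddCommGroup V] [Module ℂ V] [FiniteDimensional ℂ V]
    (ρ : ↥(symplecticGroup (Fin n) F) →* Module.End ℂ V) (hρ : ∃ g, ρ g ≠ 1) :
    (Fintype.card F ^ n - 1) / 2 ≤ Module.finrank ℂ V := by
  obtain ⟨p, hp⟩ := CharP.exists F
  haveI : Fact p.Prime := ⟨CharP.char_is_prime F p⟩
  have hp2 : p ≠ 2 := fun e => h2 (by subst e; exact_mod_cast CharP.cast_eq_zero F 2)
  obtain ⟨M, hM⟩ : ∃ M : ↥(symplecticGroup (Fin n) F) →* Matrix (Fin (Module.finrank ℂ V))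
      (Fin (Module.finrank ℂ V)) ℂ, M = ((LinearMap.toMatrixAlgEquiv (Module.finBasis ℂ V) :
        Module.End ℂ V ≃ₐ[ℂ] _) : Module.End ℂ V →* _).comp ρ := ⟨_, rfl⟩
  obtain ⟨σ, hσ⟩ : ∃ σ : ↥(symplecticGroup (Fin n) F) →* GL (Fin (Module.finrank ℂ V)) ℂ, σ = M.toHomUnits :=
    ⟨_, rfl⟩
  have hker : σ.ker ≤ Subgroup.center _ := by
    refine ((sp_perfect h2 hn).2 σ.ker inferInstance).resolve_right fun htop => ?_
    obtain ⟨g, hg⟩ := hρ
    refine hg ((LinearMap.toMatrixAlgEquiv (Module.finBasis ℂ V)).injective ?_)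
    have : σ g = 1 := MonoidHom.mem_ker.mp (htop ▸ Subgroup.mem_top g)
    have h1 := congrArg Units.val this
    rw [hσ, MonoidHom.coe_toHomUnits, Units.val_one, hM] at h1
    rw [map_one]
    exact h1
  obtain ⟨N, i, O, hN, hi, hO, hcard⟩ := CrossCharSymp.exists_support p hp2 (by omega)
    (by exact_mod_cast (Fact.out : p.Prime).ne_zero) σ hker
  have hclass := SymmCongr.class_ge h2 hN i hi O hO
  omega

/-- An additive character non-trivial on every line. -/
theorem exists_char : ∃ ψ : AddChar F ℂ, ∀ d : F, d ≠ 0 → ∃ c, ψ (d * c) ≠ 1 := by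
  refine ⟨AddChar.FiniteField.primitiveChar_to_Complex F, fun d hd => ?_⟩
  have := AddChar.FiniteField.primitiveChar_to_Complex_isPrimitive F hd
  rwa [AddChar.ne_one_iff] at this

theorem lower_mem (S : Matrix (Fin n) (Fin n) F) (hS : Sᵀ = S) :
    fromBlocks 1 0 S 1 ∈ symplecticGroup (Fin n) F := by
  rw [SymplecticGroup.mem_iff, Matrix.J, fromBlocks_transpose, fromBlocks_multiply, fromBlocks_multiply]
  simp [hS]

theorem exists_half {x : Fin n → F} (h2 : (2 : F) ≠ 0) (hx : x ≠ 0) :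
    ∃ p : half (Fin n → F), p.1 = x ∨ p.1 = -x := by
  rcases lt_or_ge (Fintype.equivFin (Fin n → F) x) (Fintype.equivFin (Fin n → F) (-x)) with h | h
  · exact ⟨⟨x, h⟩, Or.inl rfl⟩
  · refine ⟨⟨-x, ?_⟩, Or.inr rfl⟩
    rw [neg_neg]
    exact lt_of_le_of_ne h fun e => hx (neg_fix h2 x ((Fintype.equivFin _).injective e))

/-- The symplectic group has an irreducible representation of degree `(q ^ n - 1) / 2`. -/
theorem exists_irreducible (h2 : (2 : F) ≠ 0) (hn : 2 ≤ n) :
    ∃ ρ : Representation ℂ (symplecticGroup (Fin n) F) (Fin ((Fintype.card F ^ n - 1) / 2) → ℂ),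
      ρ.IsIrreducible := by
  obtain ⟨ψ, hψ⟩ := exists_char (F := F)
  obtain ⟨ω, hω⟩ := exists_weilHom (n := n) hψ h2
  obtain ⟨c, hc⟩ := hψ (-2⁻¹) (neg_ne_zero.mpr (inv_ne_zero h2))
  -- a lower unipotent element does not act trivially
  obtain ⟨i, j, hij⟩ : ∃ i j : Fin n, i ≠ j :=
    ⟨⟨0, by omega⟩, ⟨1, by omega⟩, fun h => absurd (congrArg Fin.val h) (by norm_num)⟩
  have hnt : ∃ g, ω g ≠ 1 := by
    refine ⟨⟨_, lower_mem (Matrix.single i i c) (Matrix.transpose_single i i c)⟩, fun h1 => ?_⟩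
    obtain ⟨φ, hφ⟩ : ∃ φ : (Fin n → F) → ℂ, ∀ x, φ x = ψ (-(2⁻¹ * (x ⬝ᵥ Matrix.single i i c *ᵥ x))) :=
      ⟨_, fun x => rfl⟩
    have hinv : Matrix.diagonal φ * Matrix.diagonal (fun x => (φ x)⁻¹) = 1 := by
      rw [Matrix.diagonal_mul_diagonal, ← Matrix.diagonal_one]
      congr 1
      funext x
      rw [mul_inv_cancel₀ (by rw [hφ]; exact (AddChar.val_isUnit ψ _).ne_zero)]
    have hd := hω ⟨_, lower_mem (Matrix.single i i c) (Matrix.transpose_single i i c)⟩ (Matrix.diagonal φ) _ hinv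
      fun u => by
        rw [show φ = _ from funext hφ]
        exact lower_intertwiner h2 _ (Matrix.transpose_single i i c) u
    rw [h1] at hd
    obtain ⟨m, hm⟩ : ∃ m : ℂ, oddNorm (Matrix.diagonal φ) = m • odd (Matrix.diagonal φ) := ⟨_, rfl⟩
    have hval : ∀ p : half (Fin n → F), 1 = m * φ p.1 := fun p => by
      have := congrFun (congrFun hd p) p
      rw [hm, Matrix.one_apply_eq, Matrix.smul_apply, odd, Matrix.of_apply, Matrix.diagonal_apply_eq,
        Matrix.diagonal_apply_ne _ (half_ne_neg p p), sub_zero, smul_eq_mul] at this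
      exact this
    have heven : ∀ x, φ (-x) = φ x := fun x => by
      rw [hφ, hφ, Matrix.mulVec_neg, neg_dotProduct, dotProduct_neg, neg_neg]
    have hall : ∀ x, x ≠ 0 → 1 = m * φ x := fun x hx => by
      obtain ⟨p, hp | hp⟩ := exists_half h2 hx
      · rw [← hp]; exact hval p
      · rw [← heven, ← hp]; exact hval p
    have hi := hall (Pi.single i 1) (by simp)
    have hj := hall (Pi.single j 1) (by simp)
    have hvi : φ (Pi.single i 1) = ψ (-2⁻¹ * c) := by simp [hφ]
    have hvj : φ (Pi.single j 1) = 1 := by simp [hφ, Matrix.single_apply, hij]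
    rw [hvj, mul_one] at hj
    rw [← hj, one_mul, hvi] at hi
    exact hc hi.symm
  -- transport to the standard space
  obtain ⟨d, hd⟩ : ∃ d, d = (Fintype.card F ^ n - 1) / 2 := ⟨_, rfl⟩
  have hcard : Fintype.card (half (Fin n → F)) = d := by
    have := card_half (neg_fix (F := F) (n := n) h2)
    rw [Fintype.card_fun, Fintype.card_fin] at this
    omega
  rw [← hd]
  obtain ⟨E, hE⟩ : ∃ E : Matrix (half (Fin n → F)) (half (Fin n → F)) ℂ ≃ₐ[ℂ] Module.End ℂ (Fin d → ℂ),
      E = (Matrix.reindexAlgEquiv ℂ ℂ (Fintype.equivFinOfCardEq hcard)).trans Matrix.toLinAlgEquiv' := ⟨_, rfl⟩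
  obtain ⟨ρ, hρ⟩ : ∃ ρ : Representation ℂ (symplecticGroup (Fin n) F) (Fin d → ℂ),
      ρ = (E : _ →* Module.End ℂ (Fin d → ℂ)).comp ω := ⟨_, rfl⟩
  obtain ⟨g₀, hg₀⟩ : ∃ g, ρ g ≠ 1 := by
    obtain ⟨g, hg⟩ := hnt
    exact ⟨g, fun e => hg (E.injective (by rw [map_one]; rw [hρ] at e; exact e))⟩
  have hd0 : 0 < d := by
    rw [hd]
    have : 9 ≤ Fintype.card F ^ n := by
      have h3 : 3 ≤ Fintype.card F := by
        by_contra hlt
        have hq : Fintype.card F = 2 := by have := Fintype.one_lt_card (α := F); omega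
        have := FiniteField.cast_card_eq_zero F
        rw [hq, Nat.cast_ofNat] at this
        exact h2 this
      calc 9 ≤ Fintype.card F ^ 2 := by nlinarith
        _ ≤ _ := Nat.pow_le_pow_right (by omega) hn
    omega
  refine ⟨ρ, ?_⟩
  haveI : Nonempty (Fin d) := ⟨⟨0, hd0⟩⟩
  haveI : Nontrivial (Subrepresentation ρ) := ⟨⊥, ⊤, fun e => by
    have := congrArg Subrepresentation.toSubmodule e
    exact (bot_ne_top : (⊥ : Submodule ℂ (Fin d → ℂ)) ≠ ⊤) this⟩
  constructor
  intro W
  by_contra hW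
  push Not at hW
  obtain ⟨U, hU⟩ : ∃ U : Submodule ℂ (Fin d → ℂ), U = W.toSubmodule := ⟨_, rfl⟩
  have hUinv : ∀ g v, v ∈ U → ρ g v ∈ U := fun g v hv => by
    rw [hU] at hv ⊢
    exact W.apply_mem_toSubmodule g hv
  have hUbot : U ≠ ⊥ := fun e => hW.1 (Subrepresentation.toSubmodule_injective (hU ▸ e))
  have hUtop : U ≠ ⊤ := fun e => hW.2 (Subrepresentation.toSubmodule_injective (hU ▸ e))
  have hdim := Submodule.finrank_quotient_add_finrank U
  rw [Module.finrank_fin_fun] at hdim
  have hlt := Submodule.finrank_lt hUtop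
  rw [Module.finrank_fin_fun] at hlt
  have hpos : 0 < Module.finrank ℂ U := Submodule.one_le_finrank_iff.mpr hUbot
  -- both layers are trivial
  have hsub : ∀ g, ∀ v ∈ U, ρ g v = v := by
    obtain ⟨f, hf⟩ : ∃ f : ↥(symplecticGroup (Fin n) F) →* Module.End ℂ U,
        ∀ g v, (f g v : Fin d → ℂ) = ρ g v :=
      ⟨{ toFun := fun g => (ρ g).restrict (hUinv g)
         map_one' := by ext v; simp
         map_mul' := fun g h => by ext v; simp }, fun g v => rfl⟩
    by_contra hne
    push Not at hne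
    obtain ⟨g, v, hv, hgv⟩ := hne
    have := degree_ge h2 hn f ⟨g, fun e => hgv (by rw [← hf g ⟨v, hv⟩, e]; rfl)⟩
    omega
  have hquo : ∀ g v, ρ g v - v ∈ U := by
    obtain ⟨f, hf⟩ : ∃ f : ↥(symplecticGroup (Fin n) F) →* Module.End ℂ ((Fin d → ℂ) ⧸ U),
        ∀ g v, f g (Submodule.Quotient.mk v) = Submodule.Quotient.mk (ρ g v) :=
      ⟨{ toFun := fun g => U.mapQ U (ρ g) (hUinv g)
         map_one' := Submodule.linearMap_qext _ (by ext v; simp)
         map_mul' := fun g h => Submodule.linearMap_qext _ (by ext v; simp) }, fun g v => rfl⟩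
    by_contra hne
    push Not at hne
    obtain ⟨g, v, hgv⟩ := hne
    have := degree_ge h2 hn f ⟨g, fun e => hgv ((Submodule.Quotient.eq U).mp (by rw [← hf, e]; rfl))⟩
    omega
  -- hence the image is abelian, so trivial
  have hcomm : ∀ g h, ρ (g * h) = ρ (h * g) := fun g h => by
    refine LinearMap.ext fun v => ?_
    rw [map_mul, map_mul, Module.End.mul_apply, Module.End.mul_apply]
    have e1 := hsub g _ (hquo h v)
    have e2 := hsub h _ (hquo g v)
    rw [map_sub, sub_eq_iff_eq_add] at e1 e2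
    rw [e1, e2]
    abel
  have hle : commutator ↥(symplecticGroup (Fin n) F) ≤ ρ.toHomUnits.ker := by
    rw [commutator_def, Subgroup.commutator_le]
    intro g _ h _
    rw [MonoidHom.mem_ker, map_commutatorElement, commutatorElement_eq_one_iff_mul_comm, ← map_mul, ← map_mul]
    exact Units.ext (hcomm g h)
  rw [(sp_perfect h2 hn).1] at hle
  exact hg₀ (congrArg Units.val (MonoidHom.mem_ker.mp (hle (Subgroup.mem_top g₀))))

end Cfsg.Lib.Linear.Weil
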