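import Cfsg.Agent.Lib.Linear.SymplecticGroup

/-!
# The Schrödinger representation over a finite field of odd order and its intertwiners

The operators attached to the vectors of a symplectic space act irreducibly on functions on a Lagrangian;
every symplectic transformation has an intertwiner, unique up to a scalar, commuting with the parity.
-/

set_option autoImplicit false

namespace Cfsg.Lib.Linear.Weil

open Matrix
open scoped ComplexOrder

variable {F : Type*} [Field F] {n : ℕ}

/-- The position part of a vector. -/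
abbrev pos (v : Fin n ⊕ Fin n → F) : Fin n → F := fun i => v (Sum.inl i)

/-- The momentum part of a vector. -/
abbrev mom (v : Fin n ⊕ Fin n → F) : Fin n → F := fun i => v (Sum.inr i)

/-- The multiplier. -/
def beta (u v : Fin n ⊕ Fin n → F) : F := 2⁻¹ * (pos u ⬝ᵥ mom v - pos v ⬝ᵥ mom u)

theorem beta_eq_spB (u v : Fin n ⊕ Fin n → F) : beta u v = -(2⁻¹ * Symp.spB n F u v) := by
  rw [Symp.spB_apply, Cfsg.sympForm, Symp.J_mulVec, beta, ← mul_neg]
  congr 1
  simp only [dotProduct, Fintype.sum_sum_type, Sum.elim_inl, Sum.elim_inr, pos, mom, mul_neg, neg_add_rev,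
    Finset.sum_neg_distrib, neg_neg]
  rw [sub_eq_add_neg, add_comm]
  congr 1
  simp [mul_comm]

theorem beta_invariant {g : Matrix (Fin n ⊕ Fin n) (Fin n ⊕ Fin n) F}
    (hg : g ∈ symplecticGroup (Fin n) F) (u v : Fin n ⊕ Fin n → F) :
    beta (g *ᵥ u) (g *ᵥ v) = beta u v := by
  rw [beta_eq_spB, beta_eq_spB, (Symp.mem_symplecticGroup_iff g).mp hg]

variable [Fintype F] [DecidableEq F] (ψ : AddChar F ℂ)

/-- The operator of a vector. -/
noncomputable def piOp (v : Fin n ⊕ Fin n → F) : Matrix (Fin n → F) (Fin n → F) ℂ :=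
  Matrix.of fun x y => if y = x + pos v then ψ (mom v ⬝ᵥ x + 2⁻¹ * (pos v ⬝ᵥ mom v)) else 0

theorem piOp_apply (v : Fin n ⊕ Fin n → F) (x y : Fin n → F) :
    piOp ψ v x y = if y = x + pos v then ψ (mom v ⬝ᵥ x + 2⁻¹ * (pos v ⬝ᵥ mom v)) else 0 := rfl

theorem piOp_mul (h2 : (2 : F) ≠ 0) (u v : Fin n ⊕ Fin n → F) :
    piOp ψ u * piOp ψ v = ψ (beta u v) • piOp ψ (u + v) := by
  ext x z
  rw [Matrix.mul_apply, Finset.sum_eq_single (x + pos u), Matrix.smul_apply, piOp_apply, piOp_apply, piOp_apply,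
    if_pos rfl]
  · have hp : pos (u + v) = pos u + pos v := rfl
    have hm : mom (u + v) = mom u + mom v := rfl
    rw [hp, hm, show x + pos u + pos v = x + (pos u + pos v) from add_assoc _ _ _]
    split_ifs with hz
    · rw [smul_eq_mul, ← AddChar.map_add_eq_mul, ← AddChar.map_add_eq_mul]
      congr 1
      simp only [beta, dotProduct_add, add_dotProduct, dotProduct_comm (pos v) (mom u), dotProduct_comm (mom v) (pos u)]
      field_simp
      ring
    · simp
  · intro y _ hy
    rw [piOp_apply ψ u x y, if_neg hy, zero_mul]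
  · simp

theorem piOp_zero : piOp ψ (0 : Fin n ⊕ Fin n → F) = 1 := by
  ext x y
  rw [piOp_apply, Matrix.one_apply]
  have hp : pos (0 : Fin n ⊕ Fin n → F) = 0 := rfl
  have hm : mom (0 : Fin n ⊕ Fin n → F) = 0 := rfl
  simp [hp, hm, eq_comm]

theorem piOp_star (h2 : (2 : F) ≠ 0) (v : Fin n ⊕ Fin n → F) : (piOp ψ v)ᴴ = piOp ψ (-v) := by
  ext x y
  rw [Matrix.conjTranspose_apply, piOp_apply, piOp_apply]
  have hp : pos (-v) = -pos v := rfl
  have hm : mom (-v) = -mom v := rfl
  rw [hp, hm]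
  by_cases hx : x = y + pos v
  · subst hx
    rw [if_pos rfl, if_pos (by abel), ← starRingEnd_apply, ← AddChar.map_neg_eq_conj]
    congr 1
    simp only [neg_dotProduct, dotProduct_neg, dotProduct_add, dotProduct_comm (mom v) (pos v)]
    field_simp
    ring
  · rw [if_neg hx, if_neg (fun e => hx (by rw [e]; abel)), star_zero]

variable {ψ} (hψ : ∀ d : F, d ≠ 0 → ∃ c, ψ (d * c) ≠ 1)
include hψ

theorem exists_char_ne (x : Fin n → F) (hx : x ≠ 0) : ∃ b : Fin n → F, ψ (b ⬝ᵥ x) ≠ 1 := by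
  obtain ⟨i, hi⟩ := Function.ne_iff.mp hx
  obtain ⟨c, hc⟩ := hψ _ hi
  exact ⟨Pi.single i c, by rwa [single_dotProduct, mul_comm]⟩

theorem char_sum (x : Fin n → F) :
    ∑ b : Fin n → F, ψ (b ⬝ᵥ x) = if x = 0 then (Fintype.card (Fin n → F) : ℂ) else 0 := by
  split_ifs with hx
  · simp [hx]
  · obtain ⟨b, hb⟩ := exists_char_ne hψ x hx
    refine AddChar.sum_eq_zero_of_ne_one (ψ := ⟨fun b => ψ (b ⬝ᵥ x), by simp,
      fun a b => by rw [add_dotProduct, AddChar.map_add_eq_mul]⟩) fun e => hb ?_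
    exact DFunLike.congr_fun e b

theorem piOp_independent (h2 : (2 : F) ≠ 0) (c : (Fin n ⊕ Fin n → F) → ℂ) (hc : ∑ v, c v • piOp ψ v = 0) :
    c = 0 := by
  funext v₀
  obtain ⟨K, hK⟩ : ∃ K : (Fin n → F) → ℂ, ∀ b, K b = c (Sum.elim (pos v₀) b) := ⟨_, fun b => rfl⟩
  have hx : ∀ z : Fin n → F, ∑ b, K b * ψ (b ⬝ᵥ z) = 0 := by
    intro z
    obtain ⟨x, hx⟩ : ∃ x, x = z - (2⁻¹ : F) • pos v₀ := ⟨_, rfl⟩
    have e := congrFun (congrFun hc x) (x + pos v₀)
    rw [Matrix.sum_apply, ← (Equiv.sumArrowEquivProdArrow (Fin n) (Fin n) F).symm.sum_comp,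
      Fintype.sum_prod_type, Finset.sum_eq_single (pos v₀)] at e
    · rw [Matrix.zero_apply] at e
      refine Eq.trans ?_ e
      refine Finset.sum_congr rfl fun b _ => ?_
      have hp : pos ((Equiv.sumArrowEquivProdArrow (Fin n) (Fin n) F).symm (pos v₀, b)) = pos v₀ := rfl
      have hm : mom ((Equiv.sumArrowEquivProdArrow (Fin n) (Fin n) F).symm (pos v₀, b)) = b := rfl
      rw [Matrix.smul_apply, piOp_apply, hp, hm, if_pos rfl, smul_eq_mul, hK]
      congr 2
      rw [hx, dotProduct_sub, dotProduct_smul, smul_eq_mul, dotProduct_comm b (pos v₀)]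
      ring
    · intro a _ ha
      refine Finset.sum_eq_zero fun b _ => ?_
      rw [Matrix.smul_apply, piOp_apply, if_neg, smul_zero]
      intro e'
      exact ha (add_left_cancel e').symm
    · simp
  have key : ∀ b₀, (Fintype.card (Fin n → F) : ℂ) * K b₀ = 0 := fun b₀ => by
    have h0 : ∑ z, ψ (-(b₀ ⬝ᵥ z)) * ∑ b, K b * ψ (b ⬝ᵥ z) = 0 :=
      Finset.sum_eq_zero fun z _ => by rw [hx, mul_zero]
    simp only [Finset.mul_sum] at h0
    rw [Finset.sum_comm] at h0
    have h1 : ∀ b, ∑ z, ψ (-(b₀ ⬝ᵥ z)) * (K b * ψ (b ⬝ᵥ z)) = K b * ∑ z, ψ (z ⬝ᵥ (b - b₀)) := fun b => by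
      rw [Finset.mul_sum]
      refine Finset.sum_congr rfl fun z _ => ?_
      rw [dotProduct_sub, sub_eq_add_neg, AddChar.map_add_eq_mul, dotProduct_comm z b, dotProduct_comm z b₀]
      ring
    simp only [h1, char_sum hψ, sub_eq_zero, mul_ite, mul_zero, Finset.sum_ite_eq', Finset.mem_univ, if_true] at h0
    rw [mul_comm]
    exact h0
  have := (mul_eq_zero.mp (key (mom v₀))).resolve_left (by exact_mod_cast Fintype.card_ne_zero)
  rw [hK] at this
  rw [Pi.zero_apply, ← this]
  congr 1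
  funext s
  cases s <;> rfl

theorem commutant (T : Matrix (Fin n → F) (Fin n → F) ℂ) (hT : ∀ v, T * piOp ψ v = piOp ψ v * T) :
    ∃ c : ℂ, T = c • 1 := by
  have hdiag : ∀ x y, x ≠ y → T x y = 0 := by
    intro x y hxy
    obtain ⟨b, hb⟩ := exists_char_ne hψ (y - x) (sub_ne_zero.mpr (Ne.symm hxy))
    have e := congrFun (congrFun (hT (Sum.elim 0 b)) x) y
    have hp : pos (Sum.elim (0 : Fin n → F) b) = 0 := rfl
    have hm : mom (Sum.elim (0 : Fin n → F) b) = b := rfl
    rw [Matrix.mul_apply, Matrix.mul_apply, Finset.sum_eq_single y, Finset.sum_eq_single x, piOp_apply,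
      piOp_apply, hp, hm, add_zero, add_zero, if_pos rfl, if_pos rfl, zero_dotProduct, mul_zero, add_zero] at e
    · by_contra hne
      rw [mul_comm, mul_eq_mul_right_iff] at e
      rcases e with e | e
      · refine hb ?_
        rw [dotProduct_sub, AddChar.map_sub_eq_div, e, add_zero, div_self]
        exact AddChar.val_isUnit ψ _ |>.ne_zero
      · exact hne e
    · intro z _ hz
      rw [piOp_apply, hp, add_zero, if_neg hz, zero_mul]
    · simp
    · intro z _ hz
      rw [piOp_apply, hp, add_zero, if_neg (Ne.symm hz), mul_zero]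
    · simp
  refine ⟨T 0 0, ?_⟩
  ext x y
  by_cases hxy : x = y
  · subst hxy
    rw [Matrix.smul_apply, Matrix.one_apply_eq, smul_eq_mul, mul_one]
    have e := congrFun (congrFun (hT (Sum.elim x 0)) 0) x
    have hp : pos (Sum.elim x (0 : Fin n → F)) = x := rfl
    have hm : mom (Sum.elim x (0 : Fin n → F)) = 0 := rfl
    rw [Matrix.mul_apply, Matrix.mul_apply, Finset.sum_eq_single 0, Finset.sum_eq_single x, piOp_apply, hp, hm,
      zero_add, if_pos rfl] at e
    · simp only [zero_dotProduct, dotProduct_zero, mul_zero, add_zero, AddChar.map_zero_eq_one, mul_one,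
        one_mul] at e
      exact e.symm
    · intro z _ hz
      rw [piOp_apply, hp, zero_add, if_neg hz, zero_mul]
    · simp
    · intro z _ hz
      rw [hdiag 0 z (Ne.symm hz), zero_mul]
    · simp
  · rw [hdiag x y hxy, Matrix.smul_apply, Matrix.one_apply_ne hxy, smul_zero]

/-- Every symplectic matrix has an invertible intertwiner. -/
theorem exists_intertwiner (h2 : (2 : F) ≠ 0) {g : Matrix (Fin n ⊕ Fin n) (Fin n ⊕ Fin n) F}
    (hg : g ∈ symplecticGroup (Fin n) F) :
    ∃ T T' : Matrix (Fin n → F) (Fin n → F) ℂ, T * T' = 1 ∧ T' * T = 1 ∧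
      ∀ u, piOp ψ (g *ᵥ u) * T = T * piOp ψ u := by
  obtain ⟨T, hT⟩ : ∃ T : (Fin n → F) → (Fin n → F) → Matrix (Fin n → F) (Fin n → F) ℂ,
      ∀ a b, T a b = ∑ v, piOp ψ (g *ᵥ v) * Matrix.single a b 1 * piOp ψ (-v) := ⟨_, fun a b => rfl⟩
  have hint : ∀ a b u, piOp ψ (g *ᵥ u) * T a b = T a b * piOp ψ u := by
    intro a b u
    rw [hT, Finset.mul_sum, Finset.sum_mul]
    refine Fintype.sum_equiv (Equiv.addLeft u) _ _ fun v => ?_
    rw [Equiv.coe_addLeft, ← mul_assoc, ← mul_assoc, piOp_mul ψ h2, ← Matrix.mulVec_add, beta_invariant hg,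
      mul_assoc (piOp ψ (g *ᵥ (u + v)) * Matrix.single a b 1), piOp_mul ψ h2, show -(u + v) + u = -v by abel,
      Matrix.mul_smul, Matrix.smul_mul, Matrix.smul_mul]
    congr 2
    simp only [beta, pos, mom, Pi.neg_apply, Pi.add_apply]
    simp only [dotProduct, ← Finset.sum_sub_distrib]
    congr 1
    refine Finset.sum_congr rfl fun i _ => ?_
    simp only [pos, mom, Pi.neg_apply, Pi.add_apply, Pi.sub_apply]
    ring
  obtain ⟨a, b, hab⟩ : ∃ a b, T a b ≠ 0 := by
    by_contra hno
    push Not at hno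
    have hz : ∀ a x : Fin n → F, (fun v => piOp ψ (g *ᵥ -v) x a) = 0 := by
      intro a x
      refine piOp_independent hψ h2 _ ?_
      ext b y
      have e := congrFun (congrFun (hno a b) x) y
      rw [hT, Matrix.sum_apply, Matrix.zero_apply] at e
      rw [Matrix.sum_apply, Matrix.zero_apply, ← e]
      refine Fintype.sum_equiv (Equiv.neg (Fin n ⊕ Fin n → F)) _ _ fun v => ?_
      rw [Equiv.neg_apply, neg_neg, Matrix.smul_apply, smul_eq_mul, Matrix.mul_apply, Finset.sum_eq_single b,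
        Matrix.mul_single_apply_same, mul_one]
      · intro z _ hz
        rw [Matrix.mul_single_apply_of_ne _ _ _ _ _ hz, zero_mul]
      · simp
    have h0 := congrFun (hz 0 0) 0
    rw [neg_zero, Matrix.mulVec_zero, piOp_zero, Matrix.one_apply_eq] at h0
    exact one_ne_zero h0
  have hstar : ∀ u, (T a b)ᴴ * piOp ψ (g *ᵥ u) = piOp ψ u * (T a b)ᴴ := fun u => by
    have e := congrArg Matrix.conjTranspose (hint a b (-u))
    rw [Matrix.conjTranspose_mul, Matrix.conjTranspose_mul, piOp_star ψ h2, piOp_star ψ h2, neg_neg, Matrix.mulVec_neg,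
      neg_neg] at e
    exact e
  obtain ⟨c, hc⟩ := commutant hψ ((T a b)ᴴ * T a b) fun u => by
    rw [mul_assoc, ← hint, ← mul_assoc, hstar, mul_assoc]
  have hc0 : c ≠ 0 := by
    rintro rfl
    rw [zero_smul] at hc
    exact hab (Matrix.conjTranspose_mul_self_eq_zero.mp hc)
  refine ⟨T a b, c⁻¹ • (T a b)ᴴ, ?_, ?_, hint a b⟩
  · refine mul_eq_one_comm.mp ?_
    rw [Matrix.smul_mul, hc, smul_smul, inv_mul_cancel₀ hc0, one_smul]
  · rw [Matrix.smul_mul, hc, smul_smul, inv_mul_cancel₀ hc0, one_smul]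

/-- The parity operator commutes with every intertwiner. -/
theorem intertwiner_parity (h2 : (2 : F) ≠ 0) {g : Matrix (Fin n ⊕ Fin n) (Fin n ⊕ Fin n) F}
    {T T' : Matrix (Fin n → F) (Fin n → F) ℂ} (hTT : T * T' = 1)
    (hT : ∀ u, piOp ψ (g *ᵥ u) * T = T * piOp ψ u) (x y : Fin n → F) : T (-x) (-y) = T x y := by
  obtain ⟨J, hJ⟩ : ∃ J : Matrix (Fin n → F) (Fin n → F) ℂ, J = Matrix.of fun x y => if y = -x then 1 else 0 := ⟨_, rfl⟩
  have hJl : ∀ (A : Matrix (Fin n → F) (Fin n → F) ℂ) x y, (J * A) x y = A (-x) y := fun A x y => by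
    rw [Matrix.mul_apply, Finset.sum_eq_single (-x)]
    · simp [hJ]
    · intro z _ hz; simp [hJ, hz]
    · simp
  have hJr : ∀ (A : Matrix (Fin n → F) (Fin n → F) ℂ) x y, (A * J) x y = A x (-y) := fun A x y => by
    rw [Matrix.mul_apply, Finset.sum_eq_single (-y)]
    · simp [hJ]
    · intro z _ hz
      simp only [hJ, Matrix.of_apply]
      rw [if_neg (fun e => hz (by rw [e, neg_neg])), mul_zero]
    · simp
  have hJJ : J * J = 1 := by
    ext x y
    rw [hJl, hJ, Matrix.of_apply, neg_neg, Matrix.one_apply]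
    simp [eq_comm]
  have hJpi : ∀ v, J * piOp ψ v * J = piOp ψ (-v) := fun v => by
    ext x y
    rw [hJr, hJl, piOp_apply, piOp_apply]
    have hp : pos (-v) = -pos v := rfl
    have hm : mom (-v) = -mom v := rfl
    rw [hp, hm]
    refine if_congr ?_ ?_ rfl
    · constructor <;> intro e
      · rw [← neg_neg y, e]; abel
      · rw [e]; abel
    · congr 1
      simp only [neg_dotProduct, dotProduct_neg, neg_neg]
  -- the conjugate by parity intertwines the same
  have hJT : ∀ u, piOp ψ (g *ᵥ u) * (J * T * J) = (J * T * J) * piOp ψ u := fun u => by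
    have e := hT (-u)
    rw [Matrix.mulVec_neg, ← hJpi, ← hJpi] at e
    have e2 := congrArg (fun A => J * A * J) e
    calc piOp ψ (g *ᵥ u) * (J * T * J) = (J * J) * (piOp ψ (g *ᵥ u) * (J * T * J)) := by rw [hJJ, one_mul]
      _ = J * (J * piOp ψ (g *ᵥ u) * J * T) * J := by simp only [mul_assoc]
      _ = J * (T * (J * piOp ψ u * J)) * J := e2
      _ = J * T * J * piOp ψ u * (J * J) := by simp only [mul_assoc]
      _ = _ := by rw [hJJ, mul_one]
  obtain ⟨c, hc⟩ := commutant hψ (T' * (J * T * J)) fun u => by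
    have hT' : T' * piOp ψ (g *ᵥ u) = piOp ψ u * T' := by
      have hT'T : T' * T = 1 := mul_eq_one_comm.mp hTT
      calc T' * piOp ψ (g *ᵥ u) = T' * (piOp ψ (g *ᵥ u) * T) * T' := by simp only [mul_assoc, hTT, mul_one]
        _ = (T' * T) * (piOp ψ u * T') := by rw [hT]; simp only [mul_assoc]
        _ = _ := by rw [hT'T, one_mul]
    rw [mul_assoc, ← hJT, ← mul_assoc, hT', mul_assoc]
  have hJT2 : J * T * J = c • T := by
    have := congrArg (fun A => T * A) hc
    simp only [← mul_assoc] at this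
    rw [hTT, one_mul, Matrix.mul_smul, mul_one] at this
    exact this
  have hc1 : c = 1 := by
    have htr : (c - 1) * J.trace = 0 := by
      have e : T * J * T' = c • J := by
        have e1 : T * J = J * (J * T * J) := by rw [← mul_assoc, ← mul_assoc, hJJ, one_mul]
        rw [e1, hJT2, Matrix.mul_smul, Matrix.smul_mul, mul_assoc, hTT, mul_one]
      have e2 := congrArg Matrix.trace e
      rw [Matrix.trace_mul_comm, ← mul_assoc, mul_eq_one_comm.mp hTT, one_mul, Matrix.trace_smul, smul_eq_mul] at e2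
      linear_combination -e2
    have hJ1 : J.trace = 1 := by
      rw [Matrix.trace, Finset.sum_eq_single 0]
      · simp [hJ]
      · intro z _ hz
        simp only [hJ, Matrix.diag, Matrix.of_apply]
        refine if_neg fun e => hz (funext fun i => ?_)
        have := congrFun e i
        rw [Pi.neg_apply, eq_neg_iff_add_eq_zero, ← two_mul] at this
        exact (mul_eq_zero.mp this).resolve_left h2
      · simp
    rw [hJ1, mul_one, sub_eq_zero] at htr
    exact htr
  rw [hc1, one_smul] at hJT2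
  have := congrFun (congrFun hJT2 x) y
  rwa [hJr, hJl] at this

end Cfsg.Lib.Linear.Weil
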